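import Groth.Agent.W7Hull.Avoid
import Groth.Agent.RefStalk.Extend
import Groth.Agent.ConsFlat.Scheme
import Groth.Agent.Devissage.Power
import Groth.Agent.Devissage.Piece
import Groth.Agent.FpqcDescent.IdealGlue
import Groth.Agent.IdealMulSec.ArtinRees
import Groth.Agent.KFlat.ClosedImm
import Groth.Agent.K0Coh.Basic
import Groth.Agent.S2313

/-!
For a finite morphism hitting the generic point, a power of a coherent module is generically a direct image.
-/

set_option autoImplicit false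
set_option backward.isDefEq.respectTransparency false
set_option linter.style.haveILetI false

universe u

open CategoryTheory CategoryTheory.Limits AlgebraicGeometry TopologicalSpace Opposite

noncomputable section

namespace Groth.Agent.GenPushPow

variable {X Y : Scheme.{u}}

/-- Freeness over a smaller open. -/
def restrictFree {M : Y.Modules} {A V : Y.Opens} (h : V ≤ A) {n : ℕ} (e : M.restrict A.ι ≅ FlatMod.freeMod (↑A) n) :
    M.restrict V.ι ≅ FlatMod.freeMod (↑V) n :=
  (Scheme.Modules.restrictFunctorCongr (Y.homOfLE_ι h).symm).app M ≪≫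
    (Scheme.Modules.restrictFunctorComp (Y.homOfLE h) A.ι).app M ≪≫
    (Scheme.Modules.restrictFunctor (Y.homOfLE h)).mapIso e ≪≫
    (Scheme.Modules.restrictFunctorIsoPullback (Y.homOfLE h)).app _ ≪≫ DerPerf.pullFreeIso (Y.homOfLE h) n

/-- A power of a generically free module. -/
def restrictPower {M : Y.Modules} {V : Y.Opens} {n : ℕ} (r : ℕ) (e : M.restrict V.ι ≅ FlatMod.freeMod (↑V) n) :
    (Scheme.Modules.restrictFunctor V.ι).obj (∐ fun _ : Fin r => M) ≅
      ∐ fun _ : Σ _ : Fin r, Fin n => Coh.structureModule (↑V : Scheme.{u}) :=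
  PreservesCoproduct.iso (Scheme.Modules.restrictFunctor V.ι) _ ≪≫ Sigma.mapIso (fun _ => e) ≪≫
    sigmaSigmaIso (fun _ : Fin r => Fin n) fun _ _ => Coh.structureModule (↑V : Scheme.{u})

/-- The index exchange. -/
def swapIso (V : Scheme.{u}) (r n : ℕ) :
    (∐ fun _ : Σ _ : Fin r, Fin n => Coh.structureModule V) ≅ ∐ fun _ : Σ _ : Fin n, Fin r => Coh.structureModule V :=
  Sigma.whiskerEquiv (f := fun _ : Σ _ : Fin r, Fin n => Coh.structureModule V)
    (g := fun _ : Σ _ : Fin n, Fin r => Coh.structureModule V) (((Equiv.sigmaEquivProd _ _).trans (Equiv.prodComm _ _)).trans (Equiv.sigmaEquivProd _ _).symm)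
    fun _ => Iso.refl _

/-- Generic freeness near a point with free stalk. -/
theorem exists_free_nhd [IsLocallyNoetherian Y] {F : Y.Modules} (hF : Coh.IsCoh F) {y : Y}
    (h : Module.Free (Y.presheaf.stalk y) (F.presheaf.stalk y)) :
    ∃ V : Y.Opens, y ∈ V ∧ Nonempty (F.restrict V.ι ≅ FlatMod.freeMod (↑V) (Module.finrank (Y.presheaf.stalk y) (F.presheaf.stalk y))) := by
  obtain ⟨A, hA, hyA, hfree⟩ := RefStalk.exists_free_affine hF h
  haveI := hfree
  haveI := QC.finite_sections hA (hM := hF.1) hF.2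
  obtain ⟨n, ⟨e⟩⟩ := LocFree.exists_iso_free_of_affine (hM := hF.1) hA
  rw [ConsFlat.finrank_stalk e hF.1 hyA]
  exact ⟨A, hyA, ⟨e⟩⟩

theorem app_zero {A B : Y.Modules} {W : Y.Opens} (s : Γ(A, W)) : (0 : A ⟶ B).app W s = 0 := rfl

/-- Inside a submodule of a direct image equal to it over an open set, a direct image of a submodule. -/
theorem exists_push_le [IsNoetherian Y] [IsLocallyNoetherian X] (f : X ⟶ Y) [IsFinite f] {G₀ : X.Modules}
    (hG₀ : Coh.IsCoh G₀) {N : Y.Modules} (ι : N ⟶ (Scheme.Modules.pushforward f).obj G₀) [Mono ι]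
    (hN : Coh.IsQCoh N) (V : Y.Opens) [IsIso ((Scheme.Modules.restrictFunctor V.ι).map ι)] :
    ∃ (G : X.Modules) (g : G ⟶ G₀) (u : (Scheme.Modules.pushforward f).obj G ⟶ N), Coh.IsCoh G ∧
      u ≫ ι = (Scheme.Modules.pushforward f).map g ∧
      IsIso ((Scheme.Modules.restrictFunctor V.ι).map ((Scheme.Modules.pushforward f).map g)) := by
  let P := (Scheme.Modules.pushforward f).obj G₀
  haveI := hG₀.1
  have hP : Coh.IsCoh P := QC.isCoh_pushforward_of_isFinite f hG₀.2
  let I := Scheme.IdealSheafData.vanishingIdeal (⟨(V : Set Y)ᶜ, V.2.isClosed_compl⟩ : Closeds Y)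
  have hsI : (I.support : Set Y) = (V : Set Y)ᶜ := by
    simp [I]
  have hsupp : CohB1.support (cokernel ι) ⊆ (I.support : Set Y) := fun y hy => by
    rw [hsI]
    intro hyV
    exact Devissage.notMem_support_of_surjective _ (Devissage.cokSeq_shortExact ι) y
      (W7Hull.bijective_of_isIso_restrict ι V hyV).2 hy
  obtain ⟨n, hn⟩ := S2313.result Y (cokernel ι) (QC.isCoh_cokernel hN hP ι) I hsupp
  let J := (I ^ n).comap f
  let G := (Dual3.idealMul J).obj G₀
  let g : G ⟶ G₀ := Dual3.idealMulι J G₀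
  haveI : Mono g := inferInstanceAs (Mono (Dual3.idealMulι J G₀))
  have hG : Coh.IsCoh G := QC.isCoh_of_mono g hG₀ (IdealMulSec.isQCoh_idealMul J hG₀.1)
  have h0 : (Scheme.Modules.pushforward f).map g ≫ cokernel.π ι = 0 := by
    refine IdealMulSec.hom_eq_zero _ fun W s => ?_
    let W' : X.affineOpens := ⟨f ⁻¹ᵁ W.1, W.2.preimage f⟩
    have hs := (IdealMulSec.range_idealMulι J hG₀.1 W' (g.app W'.1 s)).1 ⟨s, rfl⟩
    rw [FpqcDescent.ideal_comap_appLE (I ^ n) f W W' le_rfl] at hs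
    show (cokernel.π ι).app W.1 (show Γ(P, W.1) from g.app W'.1 s) = 0
    have key : ∀ (b : Γ(X, W'.1)), b ∈ Ideal.map (f.appLE W.1 W'.1 le_rfl).hom ((I ^ n).ideal W) →
        ∀ m : Γ(G₀, W'.1), (cokernel.π ι).app W.1 (show Γ(P, W.1) from b • m) = 0 := by
      intro b hb
      induction hb using Submodule.span_induction with
      | mem b hb =>
        obtain ⟨a, ha, rfl⟩ := hb
        intro m
        have e : (show Γ(P, W.1) from (f.appLE W.1 W'.1 le_rfl).hom a • m) = a • (show Γ(P, W.1) from m) := by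
          show (f.appLE W.1 W'.1 le_rfl).hom a • m = (f.app W.1).hom a • m
          rw [f.app_eq_appLE]
        rw [e, Scheme.Modules.Hom.app_smul]
        rw [Scheme.IdealSheafData.ideal_pow] at ha
        exact hn W a ha _
      | zero => intro m; simp only [zero_smul]; exact map_zero _
      | add b c _ _ hb hc =>
        intro m
        simp only [add_smul]
        exact (map_add _ _ _).trans (by rw [hb m, hc m, add_zero])
      | smul c b _ hb =>
        intro m
        rw [smul_eq_mul, mul_comm, mul_smul]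
        exact hb _
    refine Submodule.smul_induction_on hs (fun b hb m _ => key b hb m) fun a b ha hb => ?_
    exact (map_add _ _ _).trans (by rw [ha, hb, add_zero])
  let T := ShortComplex.mk ι (cokernel.π ι) (cokernel.condition ι)
  have hT : T.Exact := ShortComplex.exact_of_g_is_cokernel T (cokernelIsCokernel ι)
  haveI : Mono T.f := ‹Mono ι›
  refine ⟨G, g, hT.lift _ h0, hG, hT.lift_f _ h0, ?_⟩
  have hout : ∀ x ∈ f ⁻¹ᵁ V, x ∉ (J.support : Set X) := fun x hx hxJ => by
    rw [Scheme.IdealSheafData.support_comap] at hxJ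
    have hxI : f x ∈ ((I ^ n).support : Set Y) := hxJ
    cases n with
    | zero => simp at hxI
    | succ k =>
      rw [Scheme.IdealSheafData.support_pow_succ, hsI] at hxI
      exact hxI hx
  refine W7Hull.isIso_restrict_of_bijective _ V fun y hy => ⟨W7Hull.st_injective _ y, fun z => ?_⟩
  obtain ⟨W, hyW, s, rfl⟩ := TopCat.Presheaf.exists_germ_eq P.presheaf z
  have hb : ∀ x ∈ f ⁻¹ᵁ V, Function.Bijective (W7Hull.st g x) := fun x hx =>
    ⟨W7Hull.st_injective _ x, fun t => LinearMap.mem_range.1 (W7Hull.st_exact_kernel _ x t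
      (@Subsingleton.elim _ (KFlat.subsingleton_stalk_push (f := J.subschemeι) _ (by
        rw [Scheme.IdealSheafData.range_subschemeι]; exact hout x hx)) _ _))⟩
  haveI := W7Hull.isIso_restrict_of_bijective g (f ⁻¹ᵁ V) hb
  let O := f ⁻¹ᵁ (W ⊓ V)
  have hO : (f ⁻¹ᵁ V).ι ''ᵁ (f ⁻¹ᵁ V).ι ⁻¹ᵁ O = O := by
    rw [Scheme.Hom.image_preimage_eq_opensRange_inf, Scheme.Opens.opensRange_ι]
    exact inf_eq_right.2 fun x hx => hx.2
  have hsurj : Function.Surjective (g.app ((f ⁻¹ᵁ V).ι ''ᵁ (f ⁻¹ᵁ V).ι ⁻¹ᵁ O)) := fun t => by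
    haveI : IsIso (((Scheme.Modules.restrictFunctor (f ⁻¹ᵁ V).ι).map g).app ((f ⁻¹ᵁ V).ι ⁻¹ᵁ O)) := inferInstance
    exact ((ConcreteCategory.isIso_iff_bijective
      (((Scheme.Modules.restrictFunctor (f ⁻¹ᵁ V).ι).map g).app ((f ⁻¹ᵁ V).ι ⁻¹ᵁ O))).1 inferInstance).2 t
  rw [hO] at hsurj
  obtain ⟨t, ht⟩ := hsurj (QC.res G₀ (f.preimage_mono (inf_le_left : W ⊓ V ≤ W)) s)
  refine ⟨((Scheme.Modules.pushforward f).obj G).presheaf.germ (W ⊓ V) y ⟨hyW, hy⟩ t, ?_⟩
  rw [W7Hull.st_eq_stalkMap]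
  erw [TopCat.Presheaf.stalkFunctor_map_germ_apply]
  refine (congrArg (P.presheaf.germ (W ⊓ V) y ⟨hyW, hy⟩) (show _ = _ from ht)).trans ?_
  exact TopCat.Presheaf.germ_res_apply P.presheaf (homOfLE (inf_le_left : W ⊓ V ≤ W)) y ⟨hyW, hy⟩ s

theorem exists_pushforward_to_power [IsIntegral X] [IsIntegral Y] [IsNoetherian Y] [IsLocallyNoetherian X]
    (f : X ⟶ Y) [IsFinite f] [Surjective f] (F : Y.Modules) (hF : Coh.IsCoh F) :
    let r := Module.finrank Y.functionField
      (((Scheme.Modules.pushforward f).obj (Coh.structureModule X)).presheaf.stalk (genericPoint Y))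
    0 < r ∧ ∃ (G : X.Modules) (u : (Scheme.Modules.pushforward f).obj G ⟶ ∐ fun _ : Fin r => F),
      Coh.IsCoh G ∧ ∃ V : Y.Opens, genericPoint Y ∈ V ∧ IsIso ((Scheme.Modules.restrictFunctor V.ι).map u) := by
  intro r
  let η := genericPoint Y
  let P₀ := (Scheme.Modules.pushforward f).obj (Coh.structureModule X)
  haveI := (Devissage.isCoh_unit X).1
  have hP₀ : Coh.IsCoh P₀ := QC.isCoh_pushforward_of_isFinite f (Devissage.isCoh_unit X).2
  letI : Field (Y.presheaf.stalk η) := inferInstanceAs (Field Y.functionField)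
  obtain ⟨A, hηA, ⟨eA⟩⟩ := exists_free_nhd hP₀ (y := η) inferInstance
  obtain ⟨B, hηB, ⟨eB⟩⟩ := exists_free_nhd hF (y := η) inferInstance
  let n := Module.finrank (Y.presheaf.stalk η) (F.presheaf.stalk η)
  have hr : 0 < r := by
    rw [Nat.pos_iff_ne_zero]
    intro h0
    obtain ⟨b⟩ := LocFree.exists_basis_stalk eA hP₀.1 hηA
    haveI : Module.Finite (Y.presheaf.stalk η) (P₀.presheaf.stalk η) := Module.Finite.of_basis b
    haveI : Subsingleton (P₀.presheaf.stalk η) := Module.finrank_zero_iff.1 h0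
    obtain ⟨W, hηW, i₁, i₂, hW⟩ := TopCat.Presheaf.germ_eq P₀.presheaf η (U := ⊤) (V := ⊤) trivial trivial
      (show Γ(P₀, ⊤) from (1 : Γ(X, f ⁻¹ᵁ ⊤))) 0 (Subsingleton.elim _ _)
    obtain ⟨ξ, hξ⟩ := f.surjective η
    haveI : Nonempty (f ⁻¹ᵁ W : X.Opens) := ⟨⟨ξ, show f ξ ∈ W by rw [hξ]; exact hηW⟩⟩
    haveI : Nontrivial Γ(X, f ⁻¹ᵁ W) := inferInstance
    rw [map_zero] at hW
    refine one_ne_zero (α := Γ(X, f ⁻¹ᵁ W)) ?_
    exact (map_one (X.presheaf.map (homOfLE (f.preimage_mono i₁.le)).op).hom).symm.trans hW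
  let V := A ⊓ B
  let G₀ : X.Modules := ⨁ fun _ : Fin n => Coh.structureModule X
  have hG₀ : Coh.IsCoh G₀ := Devissage.isCoh_biproduct _ fun _ => Devissage.isCoh_unit X
  let e₁ : (Scheme.Modules.pushforward f).obj G₀ ≅ ∐ fun _ : Fin n => P₀ :=
    (Scheme.Modules.pushforward f).mapBiproduct _ ≪≫ biproduct.isoCoproduct _
  let φ : (Scheme.Modules.restrictFunctor V.ι).obj ((Scheme.Modules.pushforward f).obj G₀) ≅
      (Scheme.Modules.restrictFunctor V.ι).obj (∐ fun _ : Fin r => F) :=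
    (Scheme.Modules.restrictFunctor V.ι).mapIso e₁ ≪≫ restrictPower n (restrictFree inf_le_left eA) ≪≫
      swapIso _ n r ≪≫ (restrictPower r (restrictFree inf_le_right eB)).symm
  haveI := hG₀.1
  have hFr : Coh.IsCoh (∐ fun _ : Fin r => F) :=
    K0Coh.isCoh_of_iso (biproduct.isoCoproduct _) (Devissage.isCoh_biproduct _ fun _ => hF)
  obtain ⟨N, ι, φ', hι, hN, hiso, hφ'⟩ := W7Hull.exists_extend_hom
    (QC.isCoh_pushforward_of_isFinite f hG₀.2).1 hFr.1 V φ.hom
  haveI := hι
  haveI := hiso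
  obtain ⟨G, g, u, hG, hu, hgiso⟩ := exists_push_le f hG₀ ι hN V
  refine ⟨hr, G, u ≫ φ', hG, V, ⟨hηA, hηB⟩, ?_⟩
  rw [Functor.map_comp, hφ', ← Category.assoc, ← Functor.map_comp, hu]
  haveI := hgiso
  infer_instance

end Groth.Agent.GenPushPow
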